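import Cfsg.Agent.H706.AvgClifford
import Cfsg.Agent.H706.GlaubQuot
import Cfsg.Agent.Characters.Clifford
import Cfsg.Agent.CharactersDeep.ExtUnique
import Cfsg.Agent.CharDeep.LinearChar
import Cfsg.Agent.S0135
import Cfsg.Agent.S0867
set_option linter.all false

-- part: H706/MultFormula
section
/-!
# The multiplicity formula

For an embedding `ι : D →* K` whose range contains the normal subgroup `Q`, a subgroup `T ≥ Q` of
`K` with a function `ϑh`, and `ξ` induced from `ϑh * η'` on the preimage of `T`, the multiplicity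
`[χ ∘ ι, ξ]` is `[η ∘ ι, η']` with `η` the coset averages of `χ * conj ϑh`.
-/

set_option autoImplicit false

namespace Cfsg.Agent.H706.MultFormula

open Cfsg Cfsg.Agent.Characters.Core Cfsg.Agent.H706.AvgClifford
open Cfsg.Agent.CharactersDeep.CosetAverage
open scoped ComplexConjugate

variable {K D : Type*} [Group K] [Group D]

/-- Restriction of a function on `T` to the preimage of `T`. -/
def pull (ι : D →* K) (T : Subgroup K) (f : T → ℂ) : T.comap ι → ℂ :=
  fun x => f ⟨ι x, x.2⟩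

theorem pull_apply (ι : D →* K) (T : Subgroup K) (f : T → ℂ) (x : T.comap ι) :
    pull ι T f x = f ⟨ι x, x.2⟩ := rfl

/-- The restricted map `T.comap ι →* T`. -/
def pullHom (ι : D →* K) (T : Subgroup K) : T.comap ι →* T where
  toFun x := ⟨ι x, x.2⟩
  map_one' := Subtype.ext (by simp)
  map_mul' x y := Subtype.ext (by simp)

theorem coe_pullHom (ι : D →* K) (T : Subgroup K) (x : T.comap ι) :
    ((pullHom ι T x : T) : K) = ι x := rfl

theorem pull_eq_comp (ι : D →* K) (T : Subgroup K) (f : T → ℂ) :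
    pull ι T f = f ∘ pullHom ι T := rfl

theorem pullHom_injective (ι : D →* K) (hι : Function.Injective ι) (T : Subgroup K) :
    Function.Injective (pullHom ι T) := by
  intro x y h
  apply Subtype.ext
  apply hι
  exact congrArg Subtype.val h

/-- The coset averages commute with the pull back. -/
theorem avg_pull (ι : D →* K) (hι : Function.Injective ι) (Q T : Subgroup K)
    (hQ : ∀ q ∈ Q, ∃ d, ι d = q) (hQT : Q ≤ T) [Fintype (Q.subgroupOf T)]
    [Fintype ((Q.comap ι).subgroupOf (T.comap ι))] (f χ : T → ℂ) :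
    avg ((Q.comap ι).subgroupOf (T.comap ι)) (pull ι T f) (pull ι T χ) =
      pull ι T (avg (Q.subgroupOf T) f χ) := by
  funext x
  rw [pull_apply, avg_apply, avg_apply]
  let e : (Q.comap ι).subgroupOf (T.comap ι) → Q.subgroupOf T :=
    fun n => ⟨⟨ι n, (n : T.comap ι).2⟩, n.2⟩
  have he : Function.Bijective e := by
    constructor
    · intro m n hmn
      have h1 : ι m = ι n := congrArg (fun z : Q.subgroupOf T => ((z : T) : K)) hmn
      exact Subtype.ext (Subtype.ext (hι h1))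
    · rintro ⟨⟨t, ht⟩, hq⟩
      obtain ⟨d, rfl⟩ := hQ t hq
      exact ⟨⟨⟨d, ht⟩, hq⟩, rfl⟩
  rw [Nat.card_congr (Equiv.ofBijective e he)]
  congr 1
  refine Fintype.sum_bijective e he _ _ fun n => ?_
  have h1 : (⟨ι (((n : T.comap ι) * x : T.comap ι) : D), ((n : T.comap ι) * x : T.comap ι).2⟩ : T) =
      ((e n : Q.subgroupOf T) : T) * ⟨ι x, x.2⟩ := Subtype.ext (by
    show ι ((n : D) * x) = ι n * ι x
    rw [map_mul])
  rw [pull_apply, pull_apply, h1]

theorem mult_formula [Fintype K] [Fintype D] (ι : D →* K) (hι : Function.Injective ι)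
    (Q T : Subgroup K)
    (hQ : ∀ q ∈ Q, ∃ d, ι d = q) (hQT : Q ≤ T) [Fintype (Q.subgroupOf T)]
    [Fintype (T.comap ι)] [Fintype ((Q.comap ι).subgroupOf (T.comap ι))]
    (χ : K → ℂ) (hχ : IsClassFunction K χ) (ϑh : T → ℂ) (η' : T.comap ι → ℂ)
    (hη' : ∀ (n : (Q.comap ι).subgroupOf (T.comap ι)) (x : T.comap ι), η' ((n : T.comap ι) * x) = η' x) :
    classInner (χ ∘ ι) (indFun (T.comap ι) (pull ι T ϑh * η')) =
      classInner (pull ι T (avg (Q.subgroupOf T) (fun t : T => χ t) ϑh)) η' := by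
  have hc : IsClassFunction D (χ ∘ ι) := by
    intro c d
    rw [Function.comp_apply, map_mul, map_mul, map_inv, hχ, Function.comp_apply]
  rw [← classInner_conj_symm, Cfsg.Agent.CharactersDeep.NormalInd.classInner_indFun _ _ _ hc,
    classInner_conj_symm]
  unfold classInner
  congr 1
  have h1 := sum_mul_invariant ((Q.comap ι).subgroupOf (T.comap ι))
    (fun x : T.comap ι => χ (ι x) * conj (pull ι T ϑh x)) (fun x => conj (η' x))
    (fun n x => by rw [hη'])
  have h2 : ∀ x : T.comap ι, (χ ∘ ι) x * conj ((pull ι T ϑh * η') x) =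
      χ (ι x) * conj (pull ι T ϑh x) * conj (η' x) := by
    intro x
    rw [Pi.mul_apply, map_mul, Function.comp_apply, mul_assoc]
  rw [Finset.sum_congr rfl fun x _ => h2 x, h1]
  refine Finset.sum_congr rfl fun x _ => ?_
  congr 1
  have h3 := congrFun (avg_pull ι hι Q T hQ hQT (fun t : T => χ t) ϑh) x
  rw [← h3]
  rfl

end Cfsg.Agent.H706.MultFormula
end

-- part: H706/Fixed
section
/-!
# Fixed constituents

A `p`-group `S` acts on `H`, `N` is a normal `S`-invariant subgroup of index prime to `p` and `ξ` an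
`S`-invariant irreducible character of `H`: some irreducible constituent of `ξ_N` is
`S`-invariant, and two of these are conjugate by an element `k` with `(s • k) * k⁻¹ ∈ N`
for all `s`.
-/

set_option autoImplicit false

namespace Cfsg.Agent.H706.Fixed

open Cfsg Cfsg.Agent.Characters.Core Cfsg.Agent.Characters.Clifford
open Cfsg.Agent.H706.GlaubQuot
open scoped ComplexConjugate

section Omega

variable {N : Type*} [Group N] [Fintype N] {A : Type*} [Group A]

/-- The constituents of the function `F`. -/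
def Omega (F : N → ℂ) : Type _ := {θ : IrrCharacter N // classInner F (θ : N → ℂ) ≠ 0}

/-- The action on the constituents of an invariant function. -/
@[instance_reducible]
def omegaAct (F : N → ℂ) (φ : A →* MulAut N) (hF : ∀ a, F ∘ (φ a) = F) :
    MulAction A (Omega F) where
  smul a θ := ⟨⟨((θ.1 : IrrCharacter N) : N → ℂ) ∘ (φ a⁻¹),
      isIrr_comp (φ a⁻¹).toMonoidHom (φ a⁻¹).surjective θ.1.2⟩, by
    have h := classInner_comp_mulEquiv (φ a⁻¹) F ((θ.1 : IrrCharacter N) : N → ℂ)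
    rw [hF] at h
    show classInner F (((θ.1 : IrrCharacter N) : N → ℂ) ∘ (φ a⁻¹)) ≠ 0
    rw [h]
    exact θ.2⟩
  one_smul θ := by
    apply Subtype.ext
    apply Subtype.ext
    funext n
    show ((θ.1 : IrrCharacter N) : N → ℂ) (φ (1 : A)⁻¹ n) = _
    rw [inv_one, map_one, MulAut.one_apply]
  mul_smul a b θ := by
    apply Subtype.ext
    apply Subtype.ext
    funext n
    show ((θ.1 : IrrCharacter N) : N → ℂ) (φ (a * b)⁻¹ n) =
      ((θ.1 : IrrCharacter N) : N → ℂ) (φ b⁻¹ (φ a⁻¹ n))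
    rw [mul_inv_rev, map_mul, MulAut.mul_apply]

end Omega

/-- The action on an invariant subgroup. -/
@[instance_reducible]
def subAct {S H : Type*} [Group S] [Group H] [MulDistribMulAction S H] (N : Subgroup H)
    (hN : ∀ (s : S), ∀ n ∈ N, s • n ∈ N) : MulDistribMulAction S N where
  smul s n := ⟨s • (n : H), hN s n n.2⟩
  one_smul n := Subtype.ext (one_smul S (n : H))
  mul_smul s t n := Subtype.ext (mul_smul s t (n : H))
  smul_mul s m n := Subtype.ext (smul_mul' s (m : H) (n : H))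
  smul_one s := Subtype.ext (smul_one s)

variable {S H : Type*} [Group S] [Group H] [Fintype H] [MulDistribMulAction S H]

/-- An `S`-invariant irreducible character has an `S`-invariant constituent on `N`. -/
theorem exists_fixed (p : ℕ) [Fact p.Prime] (hS : IsPGroup p S) (N : Subgroup H) [hNn : N.Normal]
    [Fintype N] (hN : ∀ (s : S), ∀ n ∈ N, s • n ∈ N) (hidx : ¬ p ∣ N.index) {ξ : H → ℂ}
    (hξ : IsIrrCharacter H ξ) (hξS : ∀ (s : S) (g : H), ξ (s • g) = ξ g) :
    ∃ θ : N → ℂ, IsIrrCharacter N θ ∧ (∀ (s : S) (n : N), θ ⟨s • (n : H), hN s n n.2⟩ = θ n) ∧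
      classInner (fun n : N => ξ n) θ ≠ 0 := by
  classical
  let _ : MulDistribMulAction S N := subAct N hN
  have := finite_irr (G := N)
  have := Fintype.ofFinite (IrrCharacter N)
  set F : N → ℂ := fun n => ξ n with hF
  have hFc : IsCharacter N F := isCharacter_restrict N (isIrr_isCharacter hξ)
  -- a constituent exists
  have hne : Nonempty (Omega F) := by
    by_contra hemp
    rw [not_nonempty_iff] at hemp
    have h0 : ∀ θ : IrrCharacter N, classInner F (θ : N → ℂ) = 0 := by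
      intro θ
      by_contra h
      exact hemp.false ⟨θ, h⟩
    have h1 := classFunction_eq_sum (isCharacter_isClassFunction hFc)
    have h2 : F = 0 := by
      rw [h1]
      exact Finset.sum_eq_zero fun θ _ => by rw [h0, zero_smul]
    exact isIrr_apply_one_ne_zero hξ (congrFun h2 1)
  have : Finite (Omega F) := Subtype.finite
  let φ : S →* MulAut N := MulDistribMulAction.toMulAut S N
  have hφ : ∀ s (n : N), ((φ s n : N) : H) = s • (n : H) := fun _ _ => rfl
  have hFS : ∀ s, F ∘ (φ s) = F := by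
    intro s
    funext n
    show ξ ((φ s n : N) : H) = ξ n
    rw [hφ, hξS]
  have hFH : ∀ h : H, F ∘ (MulAut.conjNormal h : MulAut N) = F := fun h =>
    restrict_comp_conjNormal (isIrr_isClassFunction hξ) h
  -- the cardinality
  have hcard : Nat.card (Omega F) ∣ N.index := by
    let _ : MulAction H (Omega F) := omegaAct F MulAut.conjNormal hFH
    have htr : MulAction.IsPretransitive H (Omega F) := by
      constructor
      intro θ₁ θ₂
      obtain ⟨g, hg⟩ := exists_conj_of_constituents N hξ θ₁.1.2 θ₂.1.2 θ₁.2 θ₂.2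
      refine ⟨g⁻¹, ?_⟩
      apply Subtype.ext
      apply Subtype.ext
      rw [hg]
      show ((θ₁.1 : IrrCharacter N) : N → ℂ) ∘ (MulAut.conjNormal (g⁻¹)⁻¹ : MulAut N) = _
      rw [inv_inv]
    obtain ⟨θ⟩ := hne
    rw [← MulAction.index_stabilizer_of_transitive H θ]
    apply Subgroup.index_dvd_of_le
    intro n hn
    rw [MulAction.mem_stabilizer_iff]
    apply Subtype.ext
    apply Subtype.ext
    funext m
    have h1 : (MulAut.conjNormal (n⁻¹) : MulAut N) m = (⟨n, hn⟩ : N)⁻¹ * m * (⟨n, hn⟩ : N) := by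
      apply Subtype.ext
      rw [MulAut.conjNormal_apply]
      simp
    show ((θ.1 : IrrCharacter N) : N → ℂ) ((MulAut.conjNormal (n⁻¹) : MulAut N) m) = _
    rw [h1]
    have h2 := isIrr_isClassFunction θ.1.2 m ((⟨n, hn⟩ : N)⁻¹)
    rwa [inv_inv] at h2
  let _ : MulAction S (Omega F) := omegaAct F φ hFS
  obtain ⟨θ, hθ⟩ := hS.nonempty_fixed_point_of_prime_not_dvd_card (Omega F)
    (fun h => hidx (h.trans hcard))
  refine ⟨((θ.1 : IrrCharacter N) : N → ℂ), θ.1.2, fun s n => ?_, θ.2⟩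
  have h1 := hθ s
  have h2 : ((θ.1 : IrrCharacter N) : N → ℂ) ∘ (φ s⁻¹) = ((θ.1 : IrrCharacter N) : N → ℂ) :=
    congrArg (fun z : Omega F => ((z.1 : IrrCharacter N) : N → ℂ)) h1
  have h3 := congrFun h2 ⟨s • (n : H), hN s n n.2⟩
  have h4 : φ s⁻¹ ⟨s • (n : H), hN s n n.2⟩ = n := Subtype.ext (by
    rw [hφ]
    exact inv_smul_smul s (n : H))
  rw [← h3, Function.comp_apply, h4]

/-- The elements carrying `θ₁` to `θ₂`. -/
def Carries (N : Subgroup H) [hNn : N.Normal] (θ₁ θ₂ : N → ℂ) (k : H) : Prop :=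
  ∀ n : N, θ₁ ⟨k * n * k⁻¹, hNn.conj_mem n n.2 k⟩ = θ₂ n

/-- The inertia group. -/
def inertia {H : Type*} [Group H] (N : Subgroup H) [hNn : N.Normal] (θ : N → ℂ) : Subgroup H where
  carrier := {k | ∀ n : N, θ ⟨k * n * k⁻¹, hNn.conj_mem n n.2 k⟩ = θ n}
  one_mem' n := by
    congr 1
    apply Subtype.ext
    simp
  mul_mem' {a b} ha hb n := by
    have h1 := ha ⟨b * n * b⁻¹, hNn.conj_mem n n.2 b⟩
    rw [hb n] at h1
    rw [← h1]
    congr 1
    apply Subtype.ext
    show a * b * (n : H) * (a * b)⁻¹ = a * (b * n * b⁻¹) * a⁻¹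
    group
  inv_mem' {a} ha n := by
    have h1 := ha ⟨a⁻¹ * n * a⁻¹⁻¹, hNn.conj_mem n n.2 a⁻¹⟩
    rw [← h1]
    congr 1
    apply Subtype.ext
    show a * (a⁻¹ * (n : H) * a⁻¹⁻¹) * a⁻¹ = n
    group

theorem mem_inertia {H : Type*} [Group H] (N : Subgroup H) [hNn : N.Normal] (θ : N → ℂ) (k : H) :
    k ∈ inertia N θ ↔ ∀ n : N, θ ⟨k * n * k⁻¹, hNn.conj_mem n n.2 k⟩ = θ n := Iff.rfl

theorem le_inertia {H : Type*} [Group H] (N : Subgroup H) [N.Normal] {θ : N → ℂ}
    (hθ : IsClassFunction N θ) : N ≤ inertia N θ := by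
  intro k hk n
  exact hθ n ⟨k, hk⟩

/-- Two `S`-invariant constituents are conjugate by an element fixed modulo `N`. -/
theorem exists_conj_fixed (p : ℕ) [Fact p.Prime] (hS : IsPGroup p S) (N : Subgroup H)
    [hNn : N.Normal] [Fintype N] (hN : ∀ (s : S), ∀ n ∈ N, s • n ∈ N) (hidx : ¬ p ∣ N.index)
    {χ : H → ℂ} (hχ : IsIrrCharacter H χ) {θ₁ θ₂ : N → ℂ} (h₁ : IsIrrCharacter N θ₁)
    (h₂ : IsIrrCharacter N θ₂) (hc₁ : classInner (fun n : N => χ n) θ₁ ≠ 0)
    (hc₂ : classInner (fun n : N => χ n) θ₂ ≠ 0)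
    (hs₁ : ∀ (s : S) (n : N), θ₁ ⟨s • (n : H), hN s n n.2⟩ = θ₁ n)
    (hs₂ : ∀ (s : S) (n : N), θ₂ ⟨s • (n : H), hN s n n.2⟩ = θ₂ n) :
    ∃ k : H, (∀ s : S, (s • k) * k⁻¹ ∈ N) ∧
      ∀ n : N, θ₁ ⟨k * n * k⁻¹, hNn.conj_mem n n.2 k⟩ = θ₂ n := by
  classical
  obtain ⟨g, hg⟩ := exists_conj_of_constituents N hχ h₁ h₂ hc₁ hc₂
  have hg' : Carries N θ₁ θ₂ g := by
    intro n
    rw [hg]
    rfl
  let _ : MulDistribMulAction S (H ⧸ N) := quotAct N hN
  have hsmul : ∀ (s : S) (h : H), s • (h : H ⧸ N) = ((s • h : H) : H ⧸ N) := fun _ _ => rfl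
  -- `Carries` is invariant under right multiplication by `N`
  have hcar : ∀ k k' : H, (k : H ⧸ N) = k' → Carries N θ₁ θ₂ k → Carries N θ₁ θ₂ k' := by
    intro k k' hkk hk n
    rw [QuotientGroup.eq] at hkk
    have h3 := hk ⟨(k⁻¹ * k') * n * (k⁻¹ * k')⁻¹, hNn.conj_mem n n.2 _⟩
    have h4 := isIrr_isClassFunction h₂ n ⟨k⁻¹ * k', hkk⟩
    have h5 : θ₂ ⟨(k⁻¹ * k') * n * (k⁻¹ * k')⁻¹, hNn.conj_mem n n.2 _⟩ = θ₂ n := h4
    rw [h5] at h3
    rw [← h3]
    congr 1
    apply Subtype.ext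
    show k' * (n : H) * k'⁻¹ = k * ((k⁻¹ * k') * n * (k⁻¹ * k')⁻¹) * k⁻¹
    group
  let X : SubMulAction S (H ⧸ N) :=
    { carrier := {x | ∃ k : H, (k : H ⧸ N) = x ∧ Carries N θ₁ θ₂ k}
      smul_mem' := by
        rintro s x ⟨k, rfl, hk⟩
        refine ⟨s • k, rfl, fun n => ?_⟩
        have h3 := hk ⟨s⁻¹ • (n : H), hN s⁻¹ n n.2⟩
        rw [hs₂ s⁻¹ n] at h3
        have h4 := hs₁ s ⟨k * (s⁻¹ • (n : H)) * k⁻¹, hNn.conj_mem _ (hN s⁻¹ n n.2) k⟩
        rw [← h3]
        refine Eq.trans ?_ h4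
        congr 1
        apply Subtype.ext
        show (s • k) * (n : H) * (s • k)⁻¹ = s • (k * (s⁻¹ • (n : H)) * k⁻¹)
        rw [smul_mul', smul_mul', smul_inv', smul_inv_smul] }
  have hX : ∀ x : H ⧸ N, x ∈ X ↔ ∃ k : H, (k : H ⧸ N) = x ∧ Carries N θ₁ θ₂ k := fun _ => Iff.rfl
  have hcard : Nat.card X ∣ N.index := by
    have e : Nat.card X = Nat.card ((inertia N θ₁).map (QuotientGroup.mk' N)) := by
      refine Nat.card_congr (Equiv.subtypeEquiv (Equiv.mulRight ((g : H ⧸ N))⁻¹) fun x => ?_)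
      rw [Equiv.coe_mulRight]
      constructor
      · rintro ⟨k, rfl, hk⟩
        refine ⟨k * g⁻¹, fun n => ?_, rfl⟩
        have h3 := hk ⟨g⁻¹ * n * g⁻¹⁻¹, hNn.conj_mem n n.2 g⁻¹⟩
        have h4 := hg' ⟨g⁻¹ * n * g⁻¹⁻¹, hNn.conj_mem n n.2 g⁻¹⟩
        rw [← h4] at h3
        have h5 : (⟨g * (g⁻¹ * n * g⁻¹⁻¹) * g⁻¹, hNn.conj_mem _ (hNn.conj_mem n n.2 g⁻¹) g⟩ : N) = n :=
          Subtype.ext (by group)
        have h6 : θ₁ ⟨g * (g⁻¹ * n * g⁻¹⁻¹) * g⁻¹, hNn.conj_mem _ (hNn.conj_mem n n.2 g⁻¹) g⟩ =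
            θ₁ n := by rw [h5]
        rw [← h6]
        refine Eq.trans ?_ h3
        congr 1
        apply Subtype.ext
        show k * g⁻¹ * (n : H) * (k * g⁻¹)⁻¹ = k * (g⁻¹ * n * g⁻¹⁻¹) * k⁻¹
        group
      · rintro ⟨t, ht, htx⟩
        refine ⟨t * g, ?_, fun n => ?_⟩
        · rw [QuotientGroup.mk_mul]
          have : ((t : H) : H ⧸ N) = x * ((g : H ⧸ N))⁻¹ := htx
          rw [this, inv_mul_cancel_right]
        · have h3 := ht ⟨g * n * g⁻¹, hNn.conj_mem n n.2 g⟩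
          rw [hg' n] at h3
          rw [← h3]
          congr 1
          apply Subtype.ext
          show t * g * (n : H) * (t * g)⁻¹ = t * (g * n * g⁻¹) * t⁻¹
          group
    rw [e]
    exact Subgroup.card_subgroup_dvd_card _
  obtain ⟨⟨x, hxX⟩, hx⟩ := hS.nonempty_fixed_point_of_prime_not_dvd_card X
    (fun h => hidx (h.trans hcard))
  obtain ⟨k, rfl, hk⟩ := (hX x).1 hxX
  refine ⟨k, fun s => ?_, hk⟩
  have h3 : s • (k : H ⧸ N) = k := congrArg Subtype.val (hx s)
  rw [hsmul, eq_comm, QuotientGroup.eq, ← hNn.mem_comm_iff] at h3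
  exact h3

end Cfsg.Agent.H706.Fixed
end

-- part: H706/Canon
section
/-!
# The invariant canonical extension

A `p`-group `S` acts on `K`, `Q` is a normal `S`-invariant Sylow `p`-subgroup of `K`, and `θ` an
`S`-invariant irreducible character of `Q`: it has an `S`-invariant extension to its inertia group.
-/

set_option autoImplicit false

namespace Cfsg.Agent.H706.Canon

open Cfsg Cfsg.Agent.Characters.Core Cfsg.Agent.Characters.Clifford
open Cfsg.Agent.H706.Fixed
open scoped ComplexConjugate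

universe u

theorem detChar_comp {G : Type u} [Group G] [Finite G] {χ : G → ℂ} (hχ : IsIrrCharacter G χ)
    (α : G ≃* G) : detChar (χ ∘ α) = detChar χ ∘ α := by
  obtain ⟨n, ρ, hρ, rfl⟩ := hχ
  let σ : Representation ℂ G (Fin n → ℂ) := MonoidHom.comp ρ (α : G →* G)
  have h1 : Representation.IsIrreducible σ :=
    CharDeep.LinearChar.isIrreducible_comp (α : G →* G) α.surjective ρ hρ
  have h2 : (ρ.character ∘ α : G → ℂ) = Representation.character σ := rfl
  rw [h2, CharactersDeep.ExtUnique.detChar_of_rep _ h1, CharactersDeep.ExtUnique.detChar_of_rep _ hρ]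
  rfl

theorem detOrder_comp {G : Type u} [Group G] [Finite G] {χ : G → ℂ} (hχ : IsIrrCharacter G χ)
    (α : G ≃* G) : detOrder (χ ∘ α) = detOrder χ := by
  unfold detOrder
  rw [detChar_comp hχ α]
  apply orderOf_eq_orderOf_iff.2
  intro n
  constructor
  · intro h
    funext g
    have h1 := congrFun h (α.symm g)
    simpa using h1
  · intro h
    funext g
    have h1 := congrFun h (α g)
    simpa using h1

theorem detOrder_dvd {G : Type u} [Group G] [Finite G] {χ : G → ℂ} (hχ : IsIrrCharacter G χ) :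
    detOrder χ ∣ Nat.card G := by
  unfold detOrder
  obtain ⟨δ, hδ⟩ := CharactersDeep.ExtUnique.exists_hom_detChar hχ
  apply orderOf_dvd_of_pow_eq_one
  funext g
  rw [Pi.pow_apply, hδ, Pi.one_apply, ← Units.val_pow_eq_pow_val, ← map_pow, pow_card_eq_one']
  simp

theorem degree_dvd_card {G : Type u} [Group G] [Finite G] {χ : G → ℂ} (hχ : IsIrrCharacter G χ)
    {d : ℕ} (hd : χ 1 = d) : d ∣ Nat.card G := by
  obtain ⟨n, ρ, hρ, rfl⟩ := hχ
  have h1 := Cfsg.Agent.S0135.result ρ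
  rw [Representation.char_one, Module.finrank_fin_fun] at hd
  rw [Module.finrank_fin_fun] at h1
  have : n = d := by exact_mod_cast hd
  rwa [this] at h1

variable {S K : Type*} [Group S] [Group K] [MulDistribMulAction S K]

/-- The inertia group of an invariant function is invariant. -/
theorem smul_mem_inertia (Q : Subgroup K) [hQn : Q.Normal] (hQ : ∀ (s : S), ∀ n ∈ Q, s • n ∈ Q)
    {θ : Q → ℂ} (hθ : ∀ (s : S) (n : Q), θ ⟨s • (n : K), hQ s n n.2⟩ = θ n) (s : S) :
    ∀ t ∈ inertia Q θ, s • t ∈ inertia Q θ := by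
  intro t ht n
  have h1 := ht ⟨s⁻¹ • (n : K), hQ s⁻¹ n n.2⟩
  rw [hθ s⁻¹ n] at h1
  rw [← h1]
  have h2 := hθ s ⟨t * (s⁻¹ • (n : K)) * t⁻¹, hQn.conj_mem _ (hQ s⁻¹ n n.2) t⟩
  refine Eq.trans ?_ h2
  congr 1
  apply Subtype.ext
  show (s • t) * (n : K) * (s • t)⁻¹ = s • (t * (s⁻¹ • (n : K)) * t⁻¹)
  rw [smul_mul', smul_mul', smul_inv', smul_inv_smul]

/-- The invariant canonical extension. -/
theorem exists_canon [Finite K] (p : ℕ) [hp : Fact p.Prime] (Q : Subgroup K) [hQn : Q.Normal]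
    (hQ : ∀ (s : S), ∀ n ∈ Q, s • n ∈ Q) (hQp : IsPGroup p Q) (hidx : ¬ p ∣ Q.index)
    {θ : Q → ℂ} (hθi : IsIrrCharacter Q θ)
    (hθ : ∀ (s : S) (n : Q), θ ⟨s • (n : K), hQ s n n.2⟩ = θ n) :
    ∃ ϑh : inertia Q θ → ℂ, IsIrrCharacter (inertia Q θ) ϑh ∧
      (∀ n : Q, ϑh ⟨(n : K), le_inertia Q (isIrr_isClassFunction hθi) n.2⟩ = θ n) ∧
      ∀ (s : S) (t : inertia Q θ), ϑh ⟨s • (t : K), smul_mem_inertia Q hQ hθ s t t.2⟩ = ϑh t := by
  classical
  set T : Subgroup K := inertia Q θ with hTdef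
  have hQT : Q ≤ T := le_inertia Q (isIrr_isClassFunction hθi)
  let e : Q.subgroupOf T ≃* Q := Subgroup.subgroupOfEquivOfLe hQT
  set θ' : Q.subgroupOf T → ℂ := fun n => θ ⟨n, n.2⟩ with hθ'
  have hθ'i : IsIrrCharacter (Q.subgroupOf T) θ' := isIrr_comp e.toMonoidHom e.surjective hθi
  have hN : (Q.subgroupOf T).Normal := inferInstance
  have hinv : ∀ (g : T) (n : Q.subgroupOf T),
      θ' ⟨g * n * g⁻¹, hN.conj_mem (n : T) n.2 g⟩ = θ' n := by
    intro g n
    exact g.2 ⟨n, n.2⟩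
  obtain ⟨d, -, hd⟩ := isIrr_apply_one hθi
  have hd' : θ' 1 = d := hd
  have hcard : Nat.card (Q.subgroupOf T) = Nat.card Q := Nat.card_congr e.toEquiv
  obtain ⟨a, ha⟩ := hQp.exists_card_eq
  have hnd : ¬ p ∣ (Q.subgroupOf T).index := fun h => hidx (h.trans (Subgroup.relIndex_dvd_index_of_normal Q T))
  have hcop : Nat.Coprime (Q.subgroupOf T).index (detOrder θ' * d) := by
    have h1 : Nat.Coprime (Q.subgroupOf T).index (p ^ a) :=
      (Nat.Coprime.pow_left a ((hp.out.coprime_iff_not_dvd).2 hnd)).symm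
    rw [← ha, ← hcard] at h1
    refine Nat.Coprime.mul_right ?_ ?_
    · exact Nat.Coprime.coprime_dvd_right (detOrder_dvd hθ'i) h1
    · exact Nat.Coprime.coprime_dvd_right (degree_dvd_card hθ'i hd') h1
  obtain ⟨ψ, ⟨hψ, hres, hdet⟩, huniq⟩ :=
    Cfsg.Agent.S0867.result (Q.subgroupOf T) θ' hθ'i hinv d hd' hcop
  refine ⟨ψ, hψ, fun n => hres ⟨⟨n, hQT n.2⟩, n.2⟩, fun s t => ?_⟩
  let _ : MulDistribMulAction S T := subAct T (smul_mem_inertia Q hQ hθ)
  let α : T ≃* T := MulDistribMulAction.toMulEquiv T s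
  have hα : ∀ t : T, ((α t : T) : K) = s • (t : K) := fun _ => rfl
  have h1 : ψ ∘ α = ψ := by
    apply huniq
    · exact isIrr_comp α.toMonoidHom α.surjective hψ
    · intro n
      have h2 : ((α (n : T) : T) : K) ∈ Q := hQ s _ n.2
      have h3 := hres ⟨α (n : T), h2⟩
      show ψ (α (n : T)) = _
      rw [h3]
      exact hθ s ⟨n, n.2⟩
    · rw [detOrder_comp hψ α, hdet]
      exact Nat.Coprime.coprime_mul_right_right hcop
  exact congrFun h1 t

end Cfsg.Agent.H706.Canon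
end
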