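import Cfsg.Agent.H611.RealBlock
import Cfsg.Agent.H684.CoverCount_m3
import Cfsg.Agent.Blocks.ExistsModular
import Cfsg.Agent.S0907
import Cfsg.Agent.S0161
import Cfsg.Agent.S4735
import Cfsg.Agent.H702.RealTable
import Cfsg.Agent.Prune
set_option linter.all false
prune_inst 0x7f00000000000000000000000000000000000000000000000000000000000000000000000000000000000000000000000000000000000000000000000000000000000000000000000000000000000000003fffffffffffffffffffffffffffbeffbdffffffff
open scoped Cfsg.Agent.FastGrp

/-!
# Real-valued characters in the principal block (helper706)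

* `RealB0 M G`: the principal block of `G` contains a nonprincipal real-valued character.
* `RealB0.comp`: it passes from a quotient to the group.
* `of_isConj_inv`: it holds if `G` has a real element of order divisible by `p`.
* `not_realB0_of_odd_index`: it fails if `O_{p'}(G)` has odd index.
-/

set_option autoImplicit false

open Cfsg
open scoped ComplexConjugate

namespace Cfsg.Agent.H706.RealB

open Cfsg.Agent.H684.BlockTools Cfsg.Agent.S4490

/-- The principal block of `G` contains a nonprincipal real-valued irreducible character. -/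
def RealB0 (M : Ideal AlgInt) (G : Type*) [Group G] : Prop :=
  ∃ χ : IrrCharacter G, χ ∈ principalBlock M G ∧ (χ : G → ℂ) ≠ (fun _ => (1 : ℂ)) ∧
    ∀ g : G, ((χ : G → ℂ) g).im = 0

section
variable {G : Type*} [Group G] {p : ℕ} {M : Ideal AlgInt}

/-- The property passes from a quotient to the group. -/
theorem RealB0.comp {H : Type*} [Group H] (hM : IsPModular p M) (f : G →* H)
    (hf : Function.Surjective f) (h : RealB0 M H) : RealB0 M G := by
  obtain ⟨χ, h1, h2, h3⟩ := h
  refine ⟨infl f hf χ, infl_mem hM f hf h1, fun h4 => h2 ?_, fun g => h3 (f g)⟩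
  funext x
  obtain ⟨g, rfl⟩ := hf x
  exact congrFun h4 g

theorem RealB0.iso {H : Type*} [Group H] (hM : IsPModular p M) (e : G ≃* H) (h : RealB0 M H) :
    RealB0 M G := h.comp hM e.toMonoidHom e.surjective

theorem RealB0.quot (hM : IsPModular p M) (N : Subgroup G) [N.Normal] (h : RealB0 M (G ⧸ N)) :
    RealB0 M G := h.comp hM (QuotientGroup.mk' N) (QuotientGroup.mk'_surjective N)

/-- The principal block is closed under complex conjugation. -/
theorem cj_mem [Finite G] {χ : IrrCharacter G} (h : χ ∈ principalBlock M G) :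
    cj χ ∈ principalBlock M G := by
  have h1 : SameBlock M (fun _ : G => (1 : ℂ)) (χ : G → ℂ) := h
  show SameBlock M (fun _ : G => (1 : ℂ)) (cj χ : G → ℂ)
  intro g
  rw [centralChar_cj]
  have h2 := h1 g⁻¹
  have h3 : centralChar (fun _ : G => (1 : ℂ)) g⁻¹ = centralChar (fun _ : G => (1 : ℂ)) g := by
    rw [Blocks.Basic.centralChar_def, Blocks.Basic.centralChar_def, centralizer_inv]
  rwa [h3] at h2

theorem im_eq_zero_of_cj [Finite G] {χ : IrrCharacter G} (h : cj χ = χ) (g : G) :
    ((χ : G → ℂ) g).im = 0 := by
  have h1 : conj ((χ : G → ℂ) g) = (χ : G → ℂ) g := by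
    rw [← cj_apply, h]
  exact Complex.conj_eq_iff_im.1 h1

theorem cj_eq_of_im [Finite G] {χ : IrrCharacter G} (h : ∀ g : G, ((χ : G → ℂ) g).im = 0) :
    cj χ = χ := by
  apply Subtype.ext
  funext g
  rw [cj_apply]
  exact Complex.conj_eq_iff_im.2 (h g)

/-- If `G` has a real element of order divisible by `p`, then the principal block contains a
nonprincipal real-valued character. -/
theorem of_isConj_inv [Finite G] [Fact p.Prime] (hM : IsPModular p M) {g : G}
    (hp : p ∣ orderOf g) (hreal : IsConj g g⁻¹) : RealB0 M G := by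
  classical
  by_contra hno
  obtain ⟨M₂, hM₂⟩ := Blocks.ExistsModular.exists_isPModular Nat.prime_two
  have hfin := finite_principal (M := M) (G := G)
  let _ : Fintype (principalBlock M G) := Fintype.ofFinite _
  let σ : principalBlock M G → principalBlock M G := fun χ => ⟨cj χ.1, cj_mem χ.2⟩
  let F : principalBlock M G → ℂ := fun χ => ((χ.1 : IrrCharacter G) : G → ℂ) 1 *
    conj (((χ.1 : IrrCharacter G) : G → ℂ) g)
  let c₀ : principalBlock M G := ⟨triv G, triv_mem hM⟩
  have hg : ∀ χ : IrrCharacter G, conj ((χ : G → ℂ) g) = (χ : G → ℂ) g := by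
    intro χ
    rw [← Blocks.Orthogonality.irr_apply_inv χ.2]
    obtain ⟨c, hc⟩ := isConj_iff.1 hreal
    rw [← hc]
    exact Blocks.Basic.irr_isClassFunction χ.2 g c
  have hsum : ∑ χ : principalBlock M G, F χ = 0 := by
    have h1 := S0907.result p M hM (principalBlock M G) isPBlock_principal (1 : G) g
      (by rw [orderOf_one]; exact (Fact.out : p.Prime).one_lt.ne' ∘ Nat.dvd_one.1) hp
    rw [← h1, ← finsum_set_coe_eq_finsum_mem, finsum_eq_sum_of_fintype]
  have h2 := sum_sub_of_involution hM₂ σ (fun χ => Subtype.ext (cj_cj χ.1)) F ?_ ?_ c₀ ?_ ?_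
  · rw [hsum] at h2
    have h3 : F c₀ = 1 := by simp [F, c₀, triv]
    rw [h3, zero_sub] at h2
    have := Blocks.Local.isPrime_of_isPModular hM₂
    have h4 := Blocks.Local.memLocalIdeal_neg h2
    rw [neg_neg] at h4
    exact Blocks.Local.not_memLocalIdeal_one h4
  · intro χ
    have h4 : IsIntegral ℤ (F χ) := by
      simp only [F]
      rw [← Blocks.Orthogonality.irr_apply_inv χ.1.2]
      exact (Characters.GaloisBasic.isIntegral_apply (Blocks.Basic.irr_isCharacter χ.1.2) 1).mul
        (Characters.GaloisBasic.isIntegral_apply (Blocks.Basic.irr_isCharacter χ.1.2) g⁻¹)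
    have := Blocks.Local.isPrime_of_isPModular hM₂
    exact Blocks.Local.memLocalRing_of_isIntegral h4
  · intro χ
    have h4 : F (σ χ) = F χ := by
      simp only [F, σ]
      rw [hg, hg, cj_one, cj_apply, hg]
    rw [h4, sub_self]
    have := Blocks.Local.isPrime_of_isPModular hM₂
    exact Blocks.Local.memLocalIdeal_zero
  · apply Subtype.ext
    apply Subtype.ext
    funext x
    simp [σ, c₀, cj_apply, triv]
  · intro χ hχ hne
    exfalso
    apply hno
    refine ⟨χ.1, χ.2, fun h4 => hne ?_, fun x => ?_⟩
    · apply Subtype.ext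
      apply Subtype.ext
      rw [h4]
      rfl
    · exact im_eq_zero_of_cj (congrArg Subtype.val hχ) x

/-- Criterion T1: a real element of order divisible by `p`. -/
theorem hasReal_of_isConj_inv [Finite G] [Fact p.Prime] {g : G}
    (hp : p ∣ orderOf g) (hreal : IsConj g g⁻¹) : H702.RealB0.HasReal p G :=
  fun _ hM => of_isConj_inv hM hp hreal

/-- If `O_{p'}(G)` has odd index, the trivial character is the only real-valued character in the
principal block. -/
theorem not_realB0_of_odd_index [Finite G] [Fact p.Prime] (hM : IsPModular p M)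
    (h : Odd (pPrimeCore p G).index) : ¬ RealB0 M G := by
  rintro ⟨χ, h1, h2, h3⟩
  have hN : ¬ p ∣ Nat.card (pPrimeCore p G) := by
    have h1 := Cfsg.Agent.Lib.Cores.pPrimeCore_coprime (G := G) p
    exact (Nat.Prime.coprime_iff_not_dvd Fact.out).1 h1.symm
  obtain ⟨ψ, hψ, rfl⟩ := (S4735.bijOn_infl hM (pPrimeCore p G) hN).surjOn h1
  have h4 : (ψ : G ⧸ pPrimeCore p G → ℂ) = fun _ => 1 := by
    refine S0161.result (by rwa [← Subgroup.index_eq_card]) ψ fun x => ?_
    obtain ⟨g, rfl⟩ := QuotientGroup.mk_surjective x
    exact h3 g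
  apply h2
  funext g
  rw [S4735.infl_apply, h4]

end

end Cfsg.Agent.H706.RealB

private theorem dce_9c43561b98c6 : _root_.True := by
  try have : _root_.True := by simp only [_root_.Cfsg.Agent.H684.BlockTools.triv.eq_1]
  exact _root_.True.intro
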