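import Mathlib
import Cfsg.Prelude.Def_Characters
import Cfsg.Agent.Characters.Core
import Cfsg.Agent.Characters.Clifford
import Cfsg.Agent.CharDeep.CliffordCorr
import Cfsg.Agent.CharactersDeep.CosetAverage
import Cfsg.Agent.CharactersDeep.NormalInd
set_option linter.all false

/-!
# The Clifford correspondence through coset averages

`T` is the inertia group of `ϑ ∈ Irr(H)`, `H` normal in `G`, and `ϑh ∈ Irr(T)` extends `ϑ`.  For
`χ ∈ Irr(G)` over `ϑ` the coset averages `η` of `χ_T * conj ϑh` over `H` form an irreducible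
character of `T` and `χ` is induced from `ϑh * η`.
-/

set_option autoImplicit false

namespace Cfsg.Agent.H706.AvgClifford

open Cfsg Cfsg.Agent.Characters.Core Cfsg.Agent.Characters.Clifford
open Cfsg.Agent.CharactersDeep.CosetAverage Cfsg.Agent.CharDeep.CliffordCorr
open scoped ComplexConjugate

/-- The coset averages of `f * conj χ` over the subgroup `N`. -/
noncomputable def avg {G : Type*} [Group G] (N : Subgroup G) [Fintype N] (f χ : G → ℂ) : G → ℂ :=
  fun g => (Nat.card N : ℂ)⁻¹ * ∑ n : N, f ((n : G) * g) * conj (χ ((n : G) * g))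

theorem avg_apply {G : Type*} [Group G] (N : Subgroup G) [Fintype N] (f χ : G → ℂ) (g : G) :
    avg N f χ g = (Nat.card N : ℂ)⁻¹ * ∑ n : N, f ((n : G) * g) * conj (χ ((n : G) * g)) := rfl

theorem avg_sum_smul {G : Type*} [Group G] (N : Subgroup G) [Fintype N] {ι : Type*}
    (s : Finset ι) (a : ι → ℂ) (τ : ι → G → ℂ) (χ : G → ℂ) :
    avg N (∑ i ∈ s, a i • τ i) χ = ∑ i ∈ s, a i • avg N (τ i) χ := by
  funext g
  simp only [avg_apply, Finset.sum_apply, Pi.smul_apply, smul_eq_mul, Finset.sum_mul,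
    Finset.mul_sum]
  rw [Finset.sum_comm]
  refine Finset.sum_congr rfl fun i _ => Finset.sum_congr rfl fun n _ => ?_
  ring

theorem avg_mul_left {G : Type*} [Group G] (N : Subgroup G) [Fintype N] (f χ : G → ℂ) (m : N)
    (g : G) : avg N f χ ((m : G) * g) = avg N f χ g :=
  cosetAverage_invariant N (fun g => f g * conj (χ g)) m g

variable {G : Type*} [Group G] [Fintype G]

omit [Fintype G] in
/-- Transfer of the multiplicity from `H` to `H.subgroupOf T`. -/
theorem classInner_subgroupOf (H T : Subgroup G) [Fintype H] [Fintype (H.subgroupOf T)]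
    (hHT : H ≤ T) (τ : T → ℂ) (ϑ : H → ℂ) :
    classInner (fun n : H.subgroupOf T => τ n) (fun n : H.subgroupOf T => ϑ ⟨n, n.2⟩) =
      classInner (fun n : H => τ ⟨(n : G), hHT n.2⟩) ϑ := by
  let e : H.subgroupOf T ≃* H := Subgroup.subgroupOfEquivOfLe hHT
  have h := classInner_comp_mulEquiv e (fun n : H => τ ⟨(n : G), hHT n.2⟩) ϑ
  rw [← h]
  rfl

omit [Fintype G] in
theorem isIrr_subgroupOf (H T : Subgroup G) (hHT : H ≤ T) {ϑ : H → ℂ}
    (hϑ : IsIrrCharacter H ϑ) :
    IsIrrCharacter (H.subgroupOf T) (fun n : H.subgroupOf T => ϑ ⟨n, n.2⟩) := by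
  let e : H.subgroupOf T ≃* H := Subgroup.subgroupOfEquivOfLe hHT
  exact isIrr_comp e.toMonoidHom e.surjective hϑ

/-- The main point: the average is irreducible, and induction of `ϑh * η` gives back `χ`. -/
theorem irr_avg (H T : Subgroup G) [hN : H.Normal] [Fintype H] [Fintype T]
    [Fintype (H.subgroupOf T)] (hHT : H ≤ T) (ϑ : H → ℂ) (hϑ : IsIrrCharacter H ϑ)
    (hT : ∀ g : G, g ∈ T ↔ ∀ n : H, ϑ ⟨g * n * g⁻¹, hN.conj_mem (n : G) n.2 g⟩ = ϑ n)
    (ϑh : T → ℂ) (hϑh : IsIrrCharacter T ϑh) (hres : ∀ n : H, ϑh ⟨(n : G), hHT n.2⟩ = ϑ n)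
    (χ : G → ℂ) (hχ : IsIrrCharacter G χ) (hcon : classInner (fun n : H => χ n) ϑ ≠ 0) :
    IsIrrCharacter T (avg (H.subgroupOf T) (fun t : T => χ t) ϑh) ∧
      indFun T (ϑh * avg (H.subgroupOf T) (fun t : T => χ t) ϑh) = χ := by
  classical
  have := finite_irr (G := T)
  have := Fintype.ofFinite (IrrCharacter T)
  have hχc := isIrr_isCharacter hχ
  obtain ⟨ψ, hψ, hind, hmult⟩ := clifford_correspondence H ϑ hϑ T hT hHT χ hχ hcon
  obtain ⟨a, ha, ha'⟩ := exists_nat_coeffs (isCharacter_restrict T hχc)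
  have hrest : ∀ τ : IrrCharacter T, IsCharacter H (fun n : H => (τ : T → ℂ) ⟨(n : G), hHT n.2⟩) :=
    fun τ => isCharacter_comp (Subgroup.inclusion hHT) (isIrr_isCharacter τ.2)
  choose b hb using fun τ : IrrCharacter T => classInner_isNat (hrest τ) (isIrr_isCharacter hϑ)
  obtain ⟨e, he⟩ := classInner_isNat (isCharacter_restrict H hχc) (isIrr_isCharacter hϑ)
  have hsum : e = ∑ τ : IrrCharacter T, a τ * b τ := by
    have h1 : (fun n : H => χ n) = ∑ τ : IrrCharacter T,
        (a τ : ℂ) • (fun n : H => (τ : T → ℂ) ⟨(n : G), hHT n.2⟩) := by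
      funext n
      have := congrFun ha ⟨(n : G), hHT n.2⟩
      simp only [Finset.sum_apply, Pi.smul_apply, smul_eq_mul] at this ⊢
      exact this
    rw [h1, classInner_sum_left] at he
    simp_rw [classInner_smul_left, hb] at he
    exact_mod_cast he.symm
  -- the multiplicity of `ψ` is one
  have haψ : a ⟨ψ, hψ⟩ = 1 := by
    have h1 := ha' ⟨ψ, hψ⟩
    have h2 := Cfsg.Agent.CharactersDeep.NormalInd.classInner_indFun T ψ χ
      (isIrr_isClassFunction hχ)
    rw [hind, classInner_irr_self hχ] at h2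
    have h3 : classInner (fun t : T => χ t) ψ = 1 := by
      rw [← classInner_conj_symm, ← h2, map_one]
    have h4 : ((a ⟨ψ, hψ⟩ : ℕ) : ℂ) = 1 := by rw [← h1, ← h3]
    exact_mod_cast h4
  have hbψ : b ⟨ψ, hψ⟩ = e := by
    have h1 := hb ⟨ψ, hψ⟩
    have h2 : ((b ⟨ψ, hψ⟩ : ℕ) : ℂ) = e := by rw [← h1, ← he]; exact hmult
    exact_mod_cast h2
  have hoth : ∀ τ : IrrCharacter T, τ ≠ ⟨ψ, hψ⟩ → a τ * b τ = 0 := by
    rw [← Finset.add_sum_erase _ _ (Finset.mem_univ (⟨ψ, hψ⟩ : IrrCharacter T)), haψ, hbψ,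
      one_mul] at hsum
    have h1 : ∑ τ ∈ Finset.univ.erase (⟨ψ, hψ⟩ : IrrCharacter T), a τ * b τ = 0 := by omega
    intro τ hτ
    exact (Finset.sum_eq_zero_iff.1 h1) τ (Finset.mem_erase.2 ⟨hτ, Finset.mem_univ _⟩)
  -- the restriction of the extension
  have hresN : (fun n : H.subgroupOf T => ϑh n) = fun n : H.subgroupOf T => ϑ ⟨n, n.2⟩ := by
    funext n
    exact hres ⟨n, n.2⟩
  have hirrN : IsIrrCharacter (H.subgroupOf T) (fun n : H.subgroupOf T => ϑh n) := by
    rw [hresN]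
    exact isIrr_subgroupOf H T hHT hϑ
  have hzero : ∀ τ : IrrCharacter T, b τ = 0 → avg (H.subgroupOf T) (τ : T → ℂ) ϑh = 0 := by
    intro τ hτ
    rcases cosetAverage_dichotomy (H.subgroupOf T) ϑh hϑh hirrN (τ : T → ℂ) τ.2 _ rfl with h | h
    · exact h.2
    · exfalso
      apply h.1
      rw [hresN, classInner_subgroupOf H T hHT, hb, hτ, Nat.cast_zero]
  have havg : avg (H.subgroupOf T) (fun t : T => χ t) ϑh = avg (H.subgroupOf T) ψ ϑh := by
    rw [ha, avg_sum_smul, Finset.sum_eq_single (⟨ψ, hψ⟩ : IrrCharacter T)]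
    · rw [haψ, Nat.cast_one, one_smul]
    · intro τ _ hτ
      rcases Nat.mul_eq_zero.1 (hoth τ hτ) with h | h
      · rw [h, Nat.cast_zero, zero_smul]
      · rw [hzero τ h, smul_zero]
    · intro h; exact absurd (Finset.mem_univ _) h
  have hne : classInner (fun n : H.subgroupOf T => ψ n) (fun n : H.subgroupOf T => ϑh n) ≠ 0 := by
    rw [hresN, classInner_subgroupOf H T hHT, hmult]
    exact hcon
  rcases cosetAverage_dichotomy (H.subgroupOf T) ϑh hϑh hirrN ψ hψ _ rfl with h | h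
  · exact absurd h.1 hne
  · have h1 : ψ = ϑh * avg (H.subgroupOf T) ψ ϑh := h.2.2
    rw [havg]
    exact ⟨h.2.1, by rw [← h1]; exact hind⟩

end Cfsg.Agent.H706.AvgClifford
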