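import Cfsg.Agent.H706.Canon
set_option linter.all false

/-!
# The correspondent is unique

The configuration: a `p`-group `S` acts on the finite group `K` with normal Sylow `p`-subgroup `Q`,
`ι : D →* K` is an `S`-equivariant embedding whose range is `{k | ∀ s, (s • k) * k⁻¹ ∈ Q}`.  For an
`S`-invariant `χ ∈ Irr(K)` at most one `S`-invariant `ξ ∈ Irr(D)` has a multiplicity `[χ ∘ ι, ξ]`
not divisible by `p`.
-/

set_option autoImplicit false

namespace Cfsg.Agent.H706.Uniq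

open Cfsg Cfsg.Agent.Characters.Core Cfsg.Agent.Characters.Clifford
open Cfsg.Agent.H706.Fixed Cfsg.Agent.H706.Canon Cfsg.Agent.H706.AvgClifford
open Cfsg.Agent.H706.MultFormula
open scoped ComplexConjugate

/-- A character whose pull back along a homomorphism is irreducible is irreducible. -/
theorem isIrr_of_comp {G H : Type*} [Group G] [Group H] [Finite G] (f : G →* H) {χ : H → ℂ}
    (hχ : IsCharacter H χ) (h : IsIrrCharacter G (χ ∘ f)) : IsIrrCharacter H χ := by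
  obtain ⟨n, ρ, rfl⟩ := hχ
  let σ : Representation ℂ G (Fin n → ℂ) := MonoidHom.comp ρ f
  have h1 : IsIrrCharacter G σ.character := h
  have h2 : σ.IsIrreducible := isIrreducible_of_isIrrCharacter σ h1
  exact ⟨n, ρ, Cfsg.Agent.Blocks.Deflate.isIrreducible_of_comp f ρ h2, rfl⟩

/-- Constituents of constituents. -/
theorem over_trans {G H : Type*} [Group G] [Group H] [Fintype G] [Fintype H] (j : H →* G)
    {f : G → ℂ} (hf : IsCharacter G f) {ξ : G → ℂ} (hξ : IsIrrCharacter G ξ)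
    {θ : H → ℂ} (hθ : IsCharacter H θ) (h1 : classInner f ξ ≠ 0)
    (h2 : classInner (ξ ∘ j) θ ≠ 0) : classInner (f ∘ j) θ ≠ 0 := by
  classical
  have := finite_irr (G := G)
  have := Fintype.ofFinite (IrrCharacter G)
  obtain ⟨a, ha, ha'⟩ := Cfsg.Agent.CharDeep.CliffordCorr.exists_nat_coeffs hf
  choose b hb using fun τ : IrrCharacter G =>
    classInner_isNat (isCharacter_comp j (isIrr_isCharacter τ.2)) hθ
  have h3 : classInner (f ∘ j) θ = ((∑ τ : IrrCharacter G, a τ * b τ : ℕ) : ℂ) := by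
    have h4 : f ∘ j = ∑ τ : IrrCharacter G, (a τ : ℂ) • ((τ : G → ℂ) ∘ j) := by
      funext x
      have := congrFun ha (j x)
      simp only [Finset.sum_apply, Pi.smul_apply, smul_eq_mul, Function.comp_apply] at this ⊢
      exact this
    rw [h4, classInner_sum_left]
    simp_rw [classInner_smul_left, hb]
    push_cast
    rfl
  rw [h3]
  have h5 : a ⟨ξ, hξ⟩ ≠ 0 := by
    intro h
    apply h1
    have := ha' ⟨ξ, hξ⟩
    rw [h] at this
    simpa using this
  have h6 : b ⟨ξ, hξ⟩ ≠ 0 := by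
    intro h
    apply h2
    have := hb ⟨ξ, hξ⟩
    rw [h] at this
    simpa using this
  have h7 : a ⟨ξ, hξ⟩ * b ⟨ξ, hξ⟩ ≤ ∑ τ : IrrCharacter G, a τ * b τ :=
    Finset.single_le_sum (f := fun τ : IrrCharacter G => a τ * b τ)
      (fun _ _ => Nat.zero_le _) (Finset.mem_univ _)
  have h8 : 0 < a ⟨ξ, hξ⟩ * b ⟨ξ, hξ⟩ := Nat.mul_pos (Nat.pos_of_ne_zero h5) (Nat.pos_of_ne_zero h6)
  exact_mod_cast (h8.trans_le h7).ne'

/-- The configuration. -/
structure Config (S : Type*) {K D : Type*} [Group S] [Group K] [Group D]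
    [MulDistribMulAction S K] [MulDistribMulAction S D] (Q : Subgroup K) (ι : D →* K) (p : ℕ) :
    Prop where
  inj : Function.Injective ι
  mem : ∀ k : K, (∀ s : S, (s • k) * k⁻¹ ∈ Q) ↔ ∃ d, ι d = k
  equi : ∀ (s : S) (d : D), ι (s • d) = s • ι d
  stab : ∀ (s : S), ∀ n ∈ Q, s • n ∈ Q
  pS : IsPGroup p S
  pQ : IsPGroup p Q
  idx : ¬ p ∣ Q.index

variable {S K D : Type*} [Group S] [Group K] [Group D] [MulDistribMulAction S K]
  [MulDistribMulAction S D] {Q : Subgroup K} {ι : D →* K} {p : ℕ}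

theorem Config.cover (h : Config S Q ι p) : ∀ q ∈ Q, ∃ d, ι d = q := by
  intro q hq
  rw [← h.mem]
  intro s
  exact Q.mul_mem (h.stab s q hq) (Q.inv_mem hq)

theorem Config.stabD (h : Config S Q ι p) : ∀ (s : S), ∀ n ∈ Q.comap ι, s • n ∈ Q.comap ι := by
  intro s n hn
  rw [Subgroup.mem_comap, h.equi]
  exact h.stab s _ hn

theorem Config.idxD [Q.Normal] (h : Config S Q ι p) : ¬ p ∣ (Q.comap ι).index := by
  intro hd
  apply h.idx
  rw [Subgroup.index_comap] at hd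
  exact hd.trans (Subgroup.relIndex_dvd_index_of_normal _ _)

/-- The isomorphism of `Q.comap ι` with `Q`. -/
noncomputable def Config.eQ (h : Config S Q ι p) : Q.comap ι ≃* Q :=
  MulEquiv.ofBijective (pullHom ι Q) ⟨pullHom_injective ι h.inj Q, fun q => by
    obtain ⟨d, hd⟩ := h.cover q q.2
    exact ⟨⟨d, by rw [Subgroup.mem_comap, hd]; exact q.2⟩, Subtype.ext hd⟩⟩

theorem Config.coe_eQ (h : Config S Q ι p) (x : Q.comap ι) : ((h.eQ x : Q) : K) = ι x := rfl

theorem Config.pull_eq (h : Config S Q ι p) (θ : Q → ℂ) : pull ι Q θ = θ ∘ h.eQ := rfl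

theorem Config.inertia_comap (h : Config S Q ι p) [Q.Normal] (θ : Q → ℂ) (g : D) :
    g ∈ (inertia Q θ).comap ι ↔ ∀ n : Q.comap ι, pull ι Q θ
      ⟨g * n * g⁻¹, (inferInstance : (Q.comap ι).Normal).conj_mem n n.2 g⟩ = pull ι Q θ n := by
  rw [Subgroup.mem_comap, mem_inertia]
  constructor
  · intro hg n
    have h1 := hg ⟨ι n, n.2⟩
    refine Eq.trans ?_ h1
    rw [pull_apply]
    congr 1
    apply Subtype.ext
    show ι (g * n * g⁻¹) = ι g * ι n * (ι g)⁻¹
    rw [map_mul, map_mul, map_inv]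
  · intro hg n
    obtain ⟨d, hd⟩ := h.cover n n.2
    have hdQ : d ∈ Q.comap ι := by rw [Subgroup.mem_comap, hd]; exact n.2
    have h1 := hg ⟨d, hdQ⟩
    rw [pull_apply, pull_apply] at h1
    have h2 : (⟨ι d, hdQ⟩ : Q) = n := Subtype.ext hd
    have h3 : θ ⟨ι d, hdQ⟩ = θ n := by rw [h2]
    refine Eq.trans ?_ (h1.trans h3)
    congr 1
    apply Subtype.ext
    show ι g * n * (ι g)⁻¹ = ι (g * d * g⁻¹)
    rw [map_mul, map_mul, map_inv, hd]

/-- An `S`-invariant constituent, as a character of `Q`. -/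
theorem Config.exists_fixed [Fintype K] [Fintype D] [Fact p.Prime] [Q.Normal]
    [Fintype (Q.comap ι)] (h : Config S Q ι p) {ξ : D → ℂ}
    (hξ : IsIrrCharacter D ξ) (hξS : ∀ (s : S) (g : D), ξ (s • g) = ξ g) :
    ∃ θ : Q → ℂ, IsIrrCharacter Q θ ∧ (∀ (s : S) (n : Q), θ ⟨s • (n : K), h.stab s n n.2⟩ = θ n) ∧
      classInner (fun n : Q.comap ι => ξ n) (pull ι Q θ) ≠ 0 := by
  obtain ⟨θ, h1, h2, h3⟩ := Fixed.exists_fixed p h.pS (Q.comap ι) h.stabD h.idxD hξ hξS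
  refine ⟨θ ∘ h.eQ.symm, isIrr_comp h.eQ.symm.toMonoidHom h.eQ.symm.surjective h1, ?_, ?_⟩
  · intro s n
    obtain ⟨x, rfl⟩ := h.eQ.surjective n
    rw [Function.comp_apply, Function.comp_apply, MulEquiv.symm_apply_apply, ← h2 s x]
    congr 1
    rw [MulEquiv.symm_apply_eq]
    apply Subtype.ext
    show s • ((h.eQ x : Q) : K) = ι (s • (x : D))
    rw [h.equi, h.coe_eQ]
  · have h4 : pull ι Q (θ ∘ h.eQ.symm) = θ := by
      rw [h.pull_eq]
      funext x
      rw [Function.comp_apply, Function.comp_apply, MulEquiv.symm_apply_apply]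
    rw [h4]
    exact h3

/-- A constituent of `ξ` is a constituent of `χ` if `ξ` is a constituent of `χ ∘ ι`. -/
theorem Config.over [Fintype K] [Fintype D] [Q.Normal] [Fintype Q]
    [Fintype (Q.comap ι)] (h : Config S Q ι p) {χ : K → ℂ} (hχ : IsCharacter K χ) {ξ : D → ℂ}
    (hξ : IsIrrCharacter D ξ) {θ : Q → ℂ} (hθ : IsIrrCharacter Q θ)
    (h1 : classInner (χ ∘ ι) ξ ≠ 0)
    (h2 : classInner (fun n : Q.comap ι => ξ n) (pull ι Q θ) ≠ 0) :
    classInner (fun n : Q => χ n) θ ≠ 0 := by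
  have h3 := over_trans (Q.comap ι).subtype (isCharacter_comp ι hχ) hξ
    (θ := pull ι Q θ) (isIrr_isCharacter (isIrr_comp h.eQ.toMonoidHom h.eQ.surjective hθ)) h1 h2
  have h4 : classInner ((χ ∘ ι) ∘ (Q.comap ι).subtype) (pull ι Q θ) =
      classInner (fun n : Q => χ n) θ := classInner_comp_mulEquiv h.eQ (fun n : Q => χ n) θ
  rwa [h4] at h3

/-- **Uniqueness.** -/
theorem Config.unique [Fintype K] [Fintype D] [Fact p.Prime] [Q.Normal]
    (h : Config S Q ι p) {χ : K → ℂ} (hχ : IsIrrCharacter K χ)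
    (hχS : ∀ (s : S) (g : K), χ (s • g) = χ g) {ξ₁ ξ₂ : D → ℂ} (hξ₁ : IsIrrCharacter D ξ₁)
    (hξ₂ : IsIrrCharacter D ξ₂) (hs₁ : ∀ (s : S) (g : D), ξ₁ (s • g) = ξ₁ g)
    (hs₂ : ∀ (s : S) (g : D), ξ₂ (s • g) = ξ₂ g) {m₁ m₂ : ℕ}
    (hm₁ : classInner (χ ∘ ι) ξ₁ = m₁) (hm₂ : classInner (χ ∘ ι) ξ₂ = m₂)
    (hp₁ : ¬ p ∣ m₁) (hp₂ : ¬ p ∣ m₂) : ξ₁ = ξ₂ := by
  classical
  have := Fintype.ofFinite Q
  have := Fintype.ofFinite (Q.comap ι)
  have hne₁ : classInner (χ ∘ ι) ξ₁ ≠ 0 := by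
    rw [hm₁]
    intro h0
    have : m₁ = 0 := by exact_mod_cast h0
    exact hp₁ (this ▸ dvd_zero p)
  have hne₂ : classInner (χ ∘ ι) ξ₂ ≠ 0 := by
    rw [hm₂]
    intro h0
    have : m₂ = 0 := by exact_mod_cast h0
    exact hp₂ (this ▸ dvd_zero p)
  obtain ⟨θ, hθi, hθS, hθ₁⟩ := h.exists_fixed hξ₁ hs₁
  obtain ⟨θ', hθ'i, hθ'S, hθ'₂⟩ := h.exists_fixed hξ₂ hs₂
  have hθχ := h.over (isIrr_isCharacter hχ) hξ₁ hθi hne₁ hθ₁
  have hθ'χ := h.over (isIrr_isCharacter hχ) hξ₂ hθ'i hne₂ hθ'₂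
  -- `θ` and `θ'` are conjugate in `D`
  obtain ⟨k, hk, hkθ⟩ := exists_conj_fixed p h.pS Q h.stab h.idx hχ hθi hθ'i hθχ hθ'χ hθS hθ'S
  obtain ⟨d, rfl⟩ := (h.mem k).1 hk
  have hθ₂ : classInner (fun n : Q.comap ι => ξ₂ n) (pull ι Q θ) ≠ 0 := by
    have h1 := classInner_restrict_conjNormal (N := Q.comap ι) (isIrr_isClassFunction hξ₂)
      (pull ι Q θ) d
    have h2 : pull ι Q θ ∘ (MulAut.conjNormal d : MulAut (Q.comap ι)) = pull ι Q θ' := by
      funext n
      rw [Function.comp_apply, pull_apply, pull_apply, ← hkθ ⟨ι n, n.2⟩]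
      congr 1
      apply Subtype.ext
      show ι ((MulAut.conjNormal d : MulAut (Q.comap ι)) n) = ι d * ι n * (ι d)⁻¹
      rw [MulAut.conjNormal_apply, map_mul, map_mul, map_inv]
    rw [h2] at h1
    rw [← h1]
    exact hθ'₂
  -- the canonical extension
  obtain ⟨ϑh, hϑh, hres, hϑS⟩ := exists_canon p Q h.stab h.pQ h.idx hθi hθS
  have hQT : Q ≤ inertia Q θ := le_inertia Q (isIrr_isClassFunction hθi)
  have hQTD : Q.comap ι ≤ (inertia Q θ).comap ι := Subgroup.comap_mono hQT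
  have := Fintype.ofFinite (inertia Q θ)
  have := Fintype.ofFinite (Q.subgroupOf (inertia Q θ))
  have := Fintype.ofFinite ((inertia Q θ).comap ι)
  have := Fintype.ofFinite ((Q.comap ι).subgroupOf ((inertia Q θ).comap ι))
  -- Clifford theory in `K`
  obtain ⟨hη, -⟩ := irr_avg Q (inertia Q θ) hQT θ hθi (fun g => mem_inertia Q θ g) ϑh hϑh hres χ hχ
    hθχ
  set η : inertia Q θ → ℂ := avg (Q.subgroupOf (inertia Q θ)) (fun t : inertia Q θ => χ t) ϑh
    with hηdef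
  -- Clifford theory in `D`
  have hθDi : IsIrrCharacter (Q.comap ι) (pull ι Q θ) :=
    isIrr_comp h.eQ.toMonoidHom h.eQ.surjective hθi
  have hresD : ∀ n : Q.comap ι, pull ι (inertia Q θ) ϑh ⟨(n : D), hQTD n.2⟩ = pull ι Q θ n :=
    fun n => hres ⟨ι n, n.2⟩
  have hϑhD : IsIrrCharacter ((inertia Q θ).comap ι) (pull ι (inertia Q θ) ϑh) := by
    refine isIrr_of_comp (Subgroup.inclusion hQTD) ?_ ?_
    · rw [pull_eq_comp]
      exact isCharacter_comp _ (isIrr_isCharacter hϑh)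
    · have h1 : pull ι (inertia Q θ) ϑh ∘ (Subgroup.inclusion hQTD) = pull ι Q θ :=
        funext hresD
      rw [h1]
      exact hθDi
  have hcliff : ∀ ξ : D → ℂ, IsIrrCharacter D ξ →
      classInner (fun n : Q.comap ι => ξ n) (pull ι Q θ) ≠ 0 →
      ∃ η' : (inertia Q θ).comap ι → ℂ, IsIrrCharacter ((inertia Q θ).comap ι) η' ∧
        (∀ (n : (Q.comap ι).subgroupOf ((inertia Q θ).comap ι)) (x : (inertia Q θ).comap ι),
          η' ((n : (inertia Q θ).comap ι) * x) = η' x) ∧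
        indFun ((inertia Q θ).comap ι) (pull ι (inertia Q θ) ϑh * η') = ξ := by
    intro ξ hξ hover
    obtain ⟨h1, h2⟩ := irr_avg (Q.comap ι) ((inertia Q θ).comap ι) hQTD (pull ι Q θ) hθDi
      (h.inertia_comap θ) (pull ι (inertia Q θ) ϑh) hϑhD hresD ξ hξ hover
    exact ⟨_, h1, fun n x => avg_mul_left _ _ _ n x, h2⟩
  obtain ⟨η₁, hη₁, hN₁, hind₁⟩ := hcliff ξ₁ hξ₁ hθ₁
  obtain ⟨η₂, hη₂, hN₂, hind₂⟩ := hcliff ξ₂ hξ₂ hθ₂
  have hmf : ∀ η' : (inertia Q θ).comap ι → ℂ,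
      (∀ (n : (Q.comap ι).subgroupOf ((inertia Q θ).comap ι)) (x : (inertia Q θ).comap ι),
          η' ((n : (inertia Q θ).comap ι) * x) = η' x) →
      classInner (χ ∘ ι) (indFun ((inertia Q θ).comap ι) (pull ι (inertia Q θ) ϑh * η')) =
        classInner (η ∘ pullHom ι (inertia Q θ)) η' := by
    intro η' hη'
    exact mult_formula ι h.inj Q (inertia Q θ) h.cover hQT χ (isIrr_isClassFunction hχ) ϑh η' hη'
  rw [← hind₁, hmf η₁ hN₁] at hm₁
  rw [← hind₂, hmf η₂ hN₂] at hm₂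
  -- the Glauberman correspondence modulo `Q`
  let _ : MulDistribMulAction S (inertia Q θ) :=
    subAct (inertia Q θ) (smul_mem_inertia Q h.stab hθS)
  have hcoe : ∀ (s : S) (t : inertia Q θ), ((s • t : inertia Q θ) : K) = s • (t : K) :=
    fun _ _ => rfl
  have hfinal : η₁ = η₂ := by
    refine GlaubQuot.unique p h.pS (Q.subgroupOf (inertia Q θ)) ?_ ?_ (pullHom ι (inertia Q θ)) ?_
      hη ?_ ?_ hη₁ hη₂ ?_ ?_ hm₁ hm₂ hp₁ hp₂
    · intro s n hn
      exact h.stab s _ hn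
    · intro hd
      exact h.idx (hd.trans (Subgroup.relIndex_dvd_index_of_normal Q (inertia Q θ)))
    · intro t
      have h1 : (∀ s : S, (s • t) * t⁻¹ ∈ Q.subgroupOf (inertia Q θ)) ↔
          ∀ s : S, (s • (t : K)) * (t : K)⁻¹ ∈ Q := Iff.rfl
      rw [h1, h.mem]
      constructor
      · rintro ⟨e, he⟩
        exact ⟨⟨e, by rw [Subgroup.mem_comap, he]; exact t.2⟩, Subtype.ext he⟩
      · rintro ⟨e, rfl⟩
        exact ⟨e, rfl⟩
    · intro n hn g
      exact avg_mul_left (Q.subgroupOf (inertia Q θ)) _ _ ⟨n, hn⟩ g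
    · intro s g
      rw [hηdef, avg_apply, avg_apply]
      congr 1
      have hst : ∀ n : Q.subgroupOf (inertia Q θ), s • (n : inertia Q θ) ∈
          Q.subgroupOf (inertia Q θ) := fun n => h.stab s _ n.2
      have hst' : ∀ n : Q.subgroupOf (inertia Q θ), s⁻¹ • (n : inertia Q θ) ∈
          Q.subgroupOf (inertia Q θ) := fun n => h.stab s⁻¹ _ n.2
      let e : Q.subgroupOf (inertia Q θ) ≃ Q.subgroupOf (inertia Q θ) :=
        { toFun := fun n => ⟨s • (n : inertia Q θ), hst n⟩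
          invFun := fun n => ⟨s⁻¹ • (n : inertia Q θ), hst' n⟩
          left_inv := fun n => Subtype.ext (inv_smul_smul s (n : inertia Q θ))
          right_inv := fun n => Subtype.ext (smul_inv_smul s (n : inertia Q θ)) }
      refine (Fintype.sum_equiv e _ _ fun n => ?_).symm
      have h1 : ((e n : Q.subgroupOf (inertia Q θ)) : inertia Q θ) * s • g =
          s • ((n : inertia Q θ) * g) := (smul_mul' s (n : inertia Q θ) g).symm
      rw [h1]
      have h2 : χ ((s • ((n : inertia Q θ) * g) : inertia Q θ) : K) =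
          χ (((n : inertia Q θ) * g : inertia Q θ) : K) := hχS s _
      have h3 : ϑh (s • ((n : inertia Q θ) * g)) = ϑh ((n : inertia Q θ) * g) := hϑS s _
      rw [h2, h3]
    · intro n hn g
      exact hN₁ ⟨n, hn⟩ g
    · intro n hn g
      exact hN₂ ⟨n, hn⟩ g
  rw [← hind₁, ← hind₂, hfinal]

end Cfsg.Agent.H706.Uniq
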